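import Mathlib

set_option autoImplicit false
set_option backward.isDefEq.respectTransparency.types false
set_option linter.style.haveILetI false
universe u
open CategoryTheory CategoryTheory.Limits AlgebraicGeometry Opposite TopologicalSpace

namespace Groth.Agent.Lib.Helper23.SecImage

variable {X Y : Scheme.{u}}

/-- the map to the scheme-theoretic image of a quasi-compact morphism is scheme-theoretically
dominant. -/
theorem isSchemeTheoreticallyDominant_toImage (s : X ⟶ Y) [QuasiCompact s] :
    IsSchemeTheoreticallyDominant s.toImage := by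
  rw [isSchemeTheoreticallyDominant_iff]
  have hcov : ⨆ U : Y.affineOpens,
      ((⟨s.imageι ⁻¹ᵁ U.1, U.2.preimage s.imageι⟩ : s.image.affineOpens) : s.image.Opens) = ⊤ := by
    rw [eq_top_iff]
    intro x _
    obtain ⟨U, hU, hxU, -⟩ := exists_isAffineOpen_mem_and_subset (X := Y) (x := s.imageι x)
      (U := ⊤) trivial
    exact Opens.mem_iSup.mpr ⟨⟨U, hU⟩, hxU⟩
  refine Scheme.IdealSheafData.ext_of_iSup_eq_top
    (fun U : Y.affineOpens => (⟨s.imageι ⁻¹ᵁ U.1, U.2.preimage s.imageι⟩ : s.image.affineOpens))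
    hcov ?_
  intro U
  rw [Scheme.Hom.ker_apply, Scheme.IdealSheafData.ideal_bot, Pi.bot_apply]
  exact (RingHom.injective_iff_ker_eq_bot _).mp (s.toImage_app_injective U)

/-- a pullback square along a monomorphism. -/
theorem isPullback_of_mono {C : Type*} [Category C] {V P T : C} (t : V ⟶ P) (m : P ⟶ T) [Mono m] :
    IsPullback (𝟙 V) t (t ≫ m) m := by
  have h1 : IsPullback t (𝟙 V) (𝟙 P) t := IsPullback.of_vert_isIso ⟨by simp⟩
  have h2 : IsPullback (𝟙 P) (𝟙 P) m m := IsKernelPair.id_of_mono m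
  have h3 := h1.paste_horiz h2
  simp only [Category.comp_id] at h3
  exact h3.flip

/-- **the scheme-theoretic image of a section over a retrocompact open is that open.** -/
theorem isIso_image_restrict (f : X ⟶ Y) [IsSeparated f] (V : Y.Opens) [QuasiCompact V.ι]
    (s : (↑V : Scheme.{u}) ⟶ X) (hs : s ≫ f = V.ι) :
    IsIso ((s.imageι ≫ f) ∣_ V) := by
  haveI : QuasiCompact (s ≫ f) := by rw [hs]; infer_instance
  haveI : QuasiCompact s := QuasiCompact.of_comp s f
  set p := s.imageι ≫ f with hp
  have h0 : s.toImage ≫ p = V.ι := by rw [hp, ← Category.assoc, s.toImage_imageι, hs]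
  -- the restriction of `toImage`
  have hr : Set.range s.toImage ⊆ Set.range (p ⁻¹ᵁ V).ι := by
    rintro _ ⟨v, rfl⟩
    rw [Scheme.Opens.range_ι]
    show p (s.toImage v) ∈ V
    have : p (s.toImage v) = V.ι v := congr($h0 v)
    rw [this]
    exact v.2
  let t : (↑V : Scheme.{u}) ⟶ ↑(p ⁻¹ᵁ V) := IsOpenImmersion.lift (p ⁻¹ᵁ V).ι s.toImage hr
  have ht : t ≫ (p ⁻¹ᵁ V).ι = s.toImage := IsOpenImmersion.lift_fac _ _ _
  have hsec : t ≫ (p ∣_ V) = 𝟙 _ := by
    rw [← cancel_mono V.ι, Category.assoc, morphismRestrict_ι, ← Category.assoc, ht, h0,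
      Category.id_comp]
  haveI := isSchemeTheoreticallyDominant_toImage s
  haveI : IsSchemeTheoreticallyDominant t := by
    have hpb := isPullback_of_mono t (p ⁻¹ᵁ V).ι
    rw [ht] at hpb
    exact IsSchemeTheoreticallyDominant.of_isPullback hpb
  haveI : IsClosedImmersion (t ≫ (p ∣_ V)) := by rw [hsec]; infer_instance
  haveI : IsClosedImmersion t := IsClosedImmersion.of_comp t (p ∣_ V)
  haveI : IsIso t := IsClosedImmersion.isIso_iff_ker_eq_bot.mpr t.ker_eq_bot
  have : p ∣_ V = inv t := by
    rw [← cancel_epi t, hsec, IsIso.hom_inv_id]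
  rw [this]
  infer_instance

end Groth.Agent.Lib.Helper23.SecImage
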